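import Groth.Agent.AlgSp.K103.ContrAlg
import Groth.Agent.AlgSp.K621.ContrDefs
import Groth.Prelude.Def_Omega2
import Groth.Agent.Smoothlim.OmegaSpec
import Groth.Agent.FormalA.TildeOpen
import Groth.Agent.Fdesc.LocGenPullback

/-! # A closed immersion with invertible conormal sheaf into an integral locally noetherian scheme is an effective
Cartier divisor (S14992, node A0) -/

set_option autoImplicit false
universe u
open CategoryTheory CategoryTheory.Limits AlgebraicGeometry Topology TopologicalSpace K621.ContrDefs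
open Groth.Agent.Smoothlim Groth.Agent.Smoothlim.OmegaSpec Groth.Agent.Smoothlim.ConormalRes

namespace K103.ContrA0

/-- `1 ⊗ x = 0` in `A ⊗_P ker f` forces `x ∈ (ker f)^2`. -/
theorem mem_sq_of_one_eq_zero {P A : Type u} [CommRing P] [CommRing A] (f : P →+* A)
    (hf : Function.Surjective f) (x : RingHom.ker f) (h : ExtCot.one f x = 0) :
    (x : P) ∈ RingHom.ker f ^ 2 := by
  let _ : Module A (RingHom.ker f).Cotangent :=
    Module.compHom _ (RingHom.quotientKerEquivOfSurjective hf).symm.toRingHom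
  have hg : ∀ (p : P) (x : RingHom.ker f),
      (RingHom.ker f).toCotangent.toAddMonoidHom (p • x) =
        f p • (RingHom.ker f).toCotangent.toAddMonoidHom x := by
    intro p x
    have h2 : (RingHom.quotientKerEquivOfSurjective hf).symm (f p) = Ideal.Quotient.mk _ p := by
      rw [RingEquiv.symm_apply_eq]; rfl
    have h3 : f p • (RingHom.ker f).toCotangent.toAddMonoidHom x =
        ((RingHom.quotientKerEquivOfSurjective hf).symm (f p)) • (RingHom.ker f).toCotangent x := rfl
    rw [h3, h2]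
    refine ((RingHom.ker f).toCotangent.map_smul p x).trans ?_
    exact (algebraMap_smul (P ⧸ RingHom.ker f) p ((RingHom.ker f).toCotangent x)).symm
  have h1 := ExtCot.fwd_one f _ ((RingHom.ker f).toCotangent.toAddMonoidHom) hg x
  rw [h, map_zero] at h1
  exact (Ideal.toCotangent_eq_zero _ _).1 h1.symm

theorem isInvertible_of_iso {X : Scheme.{u}} {L L' : X.Modules} (e : L ≅ L') (h : PicF.IsInvertible L) :
    PicF.IsInvertible L' := fun x => by
  obtain ⟨U, hx, ⟨e'⟩⟩ := h x
  exact ⟨U, hx, ⟨(Scheme.Modules.restrictFunctor U.ι).mapIso e.symm ≪≫ e'⟩⟩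

theorem isInvertible_restrict {X : Scheme.{u}} {L : X.Modules} (h : PicF.IsInvertible L) {U : Scheme.{u}}
    (j : U ⟶ X) [IsOpenImmersion j] : PicF.IsInvertible (L.restrict j) :=
  isInvertible_of_iso ((Scheme.Modules.restrictFunctorIsoPullback j).app L).symm
    (Groth.Agent.Fdesc.LocGen.isInvertible_pullback j h)

theorem affine_gen {A B : CommRingCat.{u}} (φ : A ⟶ B) (hφ : Function.Surjective φ.hom)
    (h : PicF.IsInvertible (Omega.conormal (Spec.map φ))) (q : Spec B) :
    ∃ f ∈ RingHom.ker φ.hom, f ≠ 0 ∧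
      ∀ g ∈ RingHom.ker φ.hom, ∃ s ∉ (q.asIdeal.comap φ.hom), ∃ r : A, s * g - r * f ∈ RingHom.ker φ.hom ^ 2 := by
  have h1 := isInvertible_of_iso (conormalSpecIso φ) h
  obtain ⟨a, n, hqa, -, hgen, hinj⟩ := Groth.Agent.FormalA.TildeOpen.exists_gen _ ⊤
    (isInvertible_restrict h1 (⊤ : (Spec B).Opens).ι) q trivial
  obtain ⟨f, rfl⟩ := ExtCot.exists_rep φ.hom hφ n
  obtain ⟨a', rfl⟩ := hφ a
  have ha : a' ∉ q.asIdeal.comap φ.hom := fun h => hqa h
  refine ⟨f.1, f.2, ?_, fun g hg => ?_⟩
  · intro hf0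
    have h2 : f = 0 := Subtype.ext hf0
    have h3 : ExtCot.one φ.hom (0 : RingHom.ker φ.hom) = 0 := ExtCot.one_eq_zero φ.hom 0 (Ideal.zero_mem _)
    obtain ⟨k, hk⟩ := hinj 1 (by rw [h2, h3, smul_zero])
    rw [mul_one, ← map_pow] at hk
    apply ha
    refine Ideal.IsPrime.mem_of_pow_mem inferInstance k ?_
    rw [Ideal.mem_comap, hk]
    exact Ideal.zero_mem _
  · obtain ⟨k, r, hr⟩ := hgen (ExtCot.one φ.hom ⟨g, hg⟩)
    obtain ⟨r', rfl⟩ := hφ r
    refine ⟨a' ^ k, fun h => ha (Ideal.IsPrime.mem_of_pow_mem inferInstance k h), r', ?_⟩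
    rw [← map_pow, ← ExtCot.one_smul, ← ExtCot.one_smul] at hr
    have h4 : ExtCot.one φ.hom ((a' ^ k) • (⟨g, hg⟩ : RingHom.ker φ.hom) - r' • f) = 0 := by
      have h5 := ExtCot.one_add φ.hom ((a' ^ k) • (⟨g, hg⟩ : RingHom.ker φ.hom) - r' • f) (r' • f)
      rw [sub_add_cancel, hr] at h5
      exact left_eq_add.1 (h5.trans (add_comm _ _))
    exact mem_sq_of_one_eq_zero φ.hom hφ _ h4

theorem isPullback_fromSpec {X Y : Scheme.{u}} (f : X ⟶ Y) [IsAffineHom f] {V : Y.Opens} (hV : IsAffineOpen V) :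
    IsPullback (Spec.map (f.app V)) (hV.preimage f).fromSpec hV.fromSpec f := by
  refine (IsOpenImmersion.isPullback _ _ _ _ ?_ ?_)
  · rw [Scheme.Hom.app_eq_appLE]
    exact (hV.SpecMap_appLE_fromSpec f (hV.preimage f) le_rfl).symm
  · rw [IsAffineOpen.opensRange_fromSpec, IsAffineOpen.opensRange_fromSpec]

/-- A closed immersion with invertible conormal sheaf into an integral locally noetherian scheme is an effective
Cartier divisor. -/
theorem isEffCartierIdeal_ker {X Y : Scheme.{u}} (i : Y ⟶ X) [IsClosedImmersion i] [IsIntegral X]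
    [IsLocallyNoetherian X] (h : PicF.IsInvertible (Omega.conormal i)) :
    BlowUp.IsEffCartierIdeal i.ker := by
  intro x
  by_cases hx : x ∈ Set.range i
  · obtain ⟨y, rfl⟩ := hx
    obtain ⟨_, ⟨U, hU, rfl⟩, hyU, -⟩ := X.isBasis_affineOpens.exists_subset_of_mem_open
      (Set.mem_univ (i y)) isOpen_univ
    have hyU' : i y ∈ U := hyU
    have hV := hU.preimage i
    have hsurj : Function.Surjective (i.app U).hom := i.app_surjective U hU
    have h1 : PicF.IsInvertible (Omega.conormal (Spec.map (i.app U))) :=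
      isInvertible_of_iso (conormalIso (isPullback_fromSpec i hU))
        (Groth.Agent.Fdesc.LocGen.isInvertible_pullback _ h)
    obtain ⟨q, hq⟩ : ∃ q, hV.fromSpec q = y := by
      have : y ∈ Set.range hV.fromSpec := by rw [hV.range_fromSpec]; exact hyU'
      exact this
    obtain ⟨f, hf, hf0, hgen⟩ := affine_gen (i.app U) hsurj h1 q
    have hp : (Spec.map (i.app U) q).asIdeal = q.asIdeal.comap (i.app U).hom := rfl
    have hpy : hU.fromSpec (Spec.map (i.app U) q) = i y := by
      rw [← Scheme.Hom.comp_apply, (isPullback_fromSpec i hU).w, Scheme.Hom.comp_apply, hq]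
    let W : X.affineOpens := ⟨U, hU⟩
    have hker : i.ker.ideal W = RingHom.ker (i.app U).hom := i.ker_apply W
    have : IsNoetherianRing Γ(X, U) := IsLocallyNoetherian.component_noetherian W
    have : Nonempty U := ⟨⟨i y, hyU'⟩⟩
    obtain ⟨s, hs, hs'⟩ := exists_notMem_mul_le (RingHom.ker (i.app U).hom) (IsNoetherian.noetherian _)
      (q.asIdeal.comap (i.app U).hom) (fun a ha => by
        rw [Ideal.mem_comap, RingHom.mem_ker.1 ha]; exact Ideal.zero_mem _) f hgen
    have hxs : i y ∈ X.basicOpen s := by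
      rw [← hpy]
      have h2 : Spec.map (i.app U) q ∈ hU.fromSpec ⁻¹ᵁ X.basicOpen s := by
        rw [hU.fromSpec_preimage_basicOpen]
        exact hs
      exact h2
    refine ⟨X.affineBasicOpen (U := W) s, hxs, X.presheaf.map (homOfLE (X.basicOpen_le s)).op f, ?_, ?_⟩
    · have : Nonempty (X.affineBasicOpen (U := W) s).1 := ⟨⟨i y, hxs⟩⟩
      have : IsDomain Γ(X, (X.affineBasicOpen (U := W) s).1) := inferInstance
      refine mem_nonZeroDivisors_of_ne_zero fun h2 => hf0 ?_
      have : Nonempty (X.basicOpen s) := ⟨⟨i y, hxs⟩⟩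
      exact (injective_iff_map_eq_zero _).1 (map_injective_of_isIntegral X (homOfLE (X.basicOpen_le s))) f h2
    · rw [← i.ker.map_ideal_basicOpen W s, hker]
      apply le_antisymm
      · refine Ideal.map_le_iff_le_comap.2 fun g hg => ?_
        rw [Ideal.mem_comap]
        obtain ⟨c, hc⟩ := Ideal.mem_span_singleton'.1 (hs' g hg)
        have hu : IsUnit ((X.presheaf.map (homOfLE (X.basicOpen_le s)).op).hom s) :=
          RingedSpace.isUnit_res_basicOpen X.toRingedSpace s
        refine (Ideal.unit_mul_mem_iff_mem _ hu).1 ?_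
        have h3 := congrArg (X.presheaf.map (homOfLE (X.basicOpen_le s)).op).hom hc
        rw [map_mul, map_mul] at h3
        exact h3 ▸ Ideal.mul_mem_left _ _ (Ideal.mem_span_singleton_self _)
      · rw [Ideal.span_le, Set.singleton_subset_iff]
        exact Ideal.mem_map_of_mem _ hf
  · have hcl : IsClosed (Set.range i) := i.isClosedEmbedding.isClosed_range
    obtain ⟨_, ⟨U, hU, rfl⟩, hxU, hUi⟩ := X.isBasis_affineOpens.exists_subset_of_mem_open
      (show x ∈ (Set.range i)ᶜ from hx) hcl.isOpen_compl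
    refine ⟨⟨U, hU⟩, hxU, 1, one_mem _, ?_⟩
    rw [Ideal.span_singleton_one, i.ker_apply, Ideal.eq_top_iff_one, RingHom.mem_ker, map_one]
    have h1 : i ⁻¹ᵁ U = ⊥ := by
      refine le_antisymm (fun y hy => ?_) bot_le
      exact (hUi hy ⟨y, rfl⟩).elim
    have : Subsingleton Γ(Y, i ⁻¹ᵁ U) := by
      rw [h1]
      infer_instance
    exact Subsingleton.elim _ _

end K103.ContrA0
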