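import Mathlib

/-! # Locally principal from invertible conormal module: algebra (S14992, node A0) -/

set_option autoImplicit false
universe u

namespace K103.ContrA0

variable {A : Type u} [CommRing A]

/-- If the fg ideal `I` is generated modulo `I^2` by `f`, up to multiplication by an element outside the prime `p`,
and `I ≤ p`, then `I` is generated by `f` after inverting some element outside `p`. -/
theorem exists_notMem_mul_le (I : Ideal A) (hfg : I.FG) (p : Ideal A) [p.IsPrime] (hIp : I ≤ p) (f : A)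
    (h : ∀ g ∈ I, ∃ s ∉ p, ∃ r : A, s * g - r * f ∈ I ^ 2) :
    ∃ s ∉ p, ∀ g ∈ I, s * g ∈ Ideal.span {f} := by
  classical
  let R := Localization.AtPrime p
  have h1 : I.map (algebraMap A R) ≤ Ideal.span {algebraMap A R f} ⊔
      (I.map (algebraMap A R)) • (I.map (algebraMap A R)) := by
    rw [Ideal.map_le_iff_le_comap]
    intro g hg
    obtain ⟨s, hs, r, hr⟩ := h g hg
    rw [Ideal.mem_comap]
    have hu : IsUnit (algebraMap A R s) := IsLocalization.map_units R (⟨s, hs⟩ : p.primeCompl)
    have h2 : algebraMap A R (s * g) ∈ Ideal.span {algebraMap A R f} ⊔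
        (I.map (algebraMap A R)) • (I.map (algebraMap A R)) := by
      have h3 : algebraMap A R (s * g) = algebraMap A R r * algebraMap A R f +
          algebraMap A R (s * g - r * f) := by
        rw [← map_mul, ← map_add]; congr 1; ring
      rw [h3]
      refine Submodule.add_mem_sup (Ideal.mul_mem_left _ _ (Ideal.mem_span_singleton_self _)) ?_
      rw [smul_eq_mul, ← pow_two, ← Ideal.map_pow]
      exact Ideal.mem_map_of_mem _ hr
    rw [map_mul] at h2
    exact (Ideal.unit_mul_mem_iff_mem _ hu).1 h2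
  have h4 : I.map (algebraMap A R) ≤ Ideal.span {algebraMap A R f} := by
    refine Submodule.le_of_le_smul_of_le_jacobson_bot (hfg.map _) ?_ h1
    rw [IsLocalRing.jacobson_eq_maximalIdeal _ bot_ne_top, ← Localization.AtPrime.map_eq_maximalIdeal]
    exact Ideal.map_mono hIp
  obtain ⟨t, ht⟩ := hfg
  have h5 : ∀ g ∈ t, ∃ s ∉ p, s * g ∈ Ideal.span {f} := by
    intro g hg
    have h6 : algebraMap A R g ∈ (Ideal.span {f}).map (algebraMap A R) := by
      rw [Ideal.map_span, Set.image_singleton]
      exact h4 (Ideal.mem_map_of_mem _ (ht ▸ Ideal.subset_span hg))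
    rw [IsLocalization.algebraMap_mem_map_algebraMap_iff p.primeCompl] at h6
    obtain ⟨s, hs, h7⟩ := h6
    exact ⟨s, hs, h7⟩
  choose! σ hσ using h5
  refine ⟨∏ g ∈ t, σ g, ?_, ?_⟩
  · rw [Ideal.IsPrime.prod_mem_iff]
    rintro ⟨g, hg, hg'⟩
    exact (hσ g hg).1 hg'
  · intro g hg
    have h8 : I ≤ (Ideal.span {f}).colon (Ideal.span {∏ g ∈ t, σ g}) := by
      rw [← ht, Ideal.span_le]
      intro x hx
      rw [SetLike.mem_coe, Submodule.mem_colon]
      intro y hy
      obtain ⟨c, rfl⟩ := Ideal.mem_span_singleton'.1 hy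
      have h9 : ∏ g ∈ t, σ g = σ x * ∏ g ∈ t.erase x, σ g := (Finset.mul_prod_erase t σ hx).symm
      rw [h9, smul_eq_mul]
      have h10 : x * (c * (σ x * ∏ g ∈ t.erase x, σ g)) = (c * ∏ g ∈ t.erase x, σ g) * (σ x * x) := by ring
      rw [h10]
      exact Ideal.mul_mem_left _ _ (hσ x hx).2
    have h11 := h8 hg
    rw [Submodule.mem_colon] at h11
    have := h11 _ (Ideal.mem_span_singleton_self _)
    rwa [smul_eq_mul, mul_comm] at this

end K103.ContrA0
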